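import Cfsg.Agent.KFacts.LFourThree.Cent

/-!
# `PSL(4, 3)`: `Case9aa Q z i j k l x₁ x₂ y s` (helper948)
-/

set_option autoImplicit false

namespace Cfsg.Agent.KFacts.LFourThree

open Matrix
open Cfsg.Agent.LargeExtra.Model Cfsg.Agent.LargeExtra.Pres Cfsg.Agent.LargeExtra.Models
open Cfsg.Agent.LargeExtra.W2 Cfsg.Agent.SmallExtra438.ModelA Cfsg.Agent.Co2Type.Quad
open Cfsg.Agent.SmallExtra438.Model (rP4 nd_P4 tri_P4)

theorem m1_val (A : SL4) : (m1 * A).1 = (2 : F3) • A.1 := by
  have h : (m1 : SL4).1 = (2 : F3) • (1 : M4) := by decide +kernel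
  change m1.1 * A.1 = _
  rw [h, Matrix.smul_mul, one_mul]

theorem eI_val : eI.1 = bd I2.1 1 := by decide +kernel
theorem eJ_val : eJ.1 = bd J2.1 1 := by decide +kernel
theorem eK_val : eK.1 = bd 1 I2.1 := by decide +kernel
theorem eL_val : eL.1 = bd 1 J2.1 := by decide +kernel

theorem smul_bd (c : F3) (P R : M2) : c • bd P R = bd (c • P) (c • R) := by
  ext a b
  fin_cases a <;> fin_cases b <;> simp [bd]

theorem eq_zero_of_two (R : M2) (h : R = (2 : F3) • R) : R = 0 := by
  have h1 : ∀ x : F3, x = 2 * x → x = 0 := by decide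
  ext a b
  have := congrFun (congrFun h a) b
  exact h1 _ this

theorem scal_aux : ∀ a b c d : F3, (!![a, b; c, d] : M2) * I2.1 = I2.1 * !![a, b; c, d] →
    (!![a, b; c, d] : M2) * J2.1 = J2.1 * !![a, b; c, d] → (!![a, b; c, d] : M2) = 0 ∨
      (!![a, b; c, d] : M2) = 1 ∨ (!![a, b; c, d] : M2) = (2 : F3) • 1 := by decide +kernel

theorem scal {P : M2} (h1 : P * I2.1 = I2.1 * P) (h2 : P * J2.1 = J2.1 * P) (h : P ≠ 0) :
    P = 1 ∨ P = (2 : F3) • 1 := by
  rw [Matrix.eta_fin_two P] at h1 h2 h ⊢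
  exact (scal_aux _ _ _ _ h1 h2).resolve_left h

theorem fix_aux : ∀ a b c d : F3, ((!![a, b; c, d] : M2) = I2.1 * !![a, b; c, d] ∨
    (!![a, b; c, d] : M2) = (2 : F3) • (I2.1 * !![a, b; c, d])) → (!![a, b; c, d] : M2) = 0 := by
  decide +kernel

theorem fixI {P : M2} (h : P = I2.1 * P ∨ P = (2 : F3) • (I2.1 * P)) : P = 0 := by
  rw [Matrix.eta_fin_two P] at h ⊢
  exact fix_aux _ _ _ _ h

theorem comm_val {A E : SL4} (h : pr A * pr E = pr E * pr A) :
    A.1 * E.1 = E.1 * A.1 ∨ A.1 * E.1 = (2 : F3) • (E.1 * A.1) := by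
  rw [← map_mul, ← map_mul, pr_eq_iff] at h
  rcases h with h | h
  · exact Or.inl (congrArg Subtype.val h)
  · right
    have := congrArg Subtype.val h
    rw [m1_val] at this
    exact this

theorem bd_comm_cases {P R A : M2} (hR : R ≠ 0)
    (h : bd P R * bd A 1 = bd A 1 * bd P R ∨ bd P R * bd A 1 = (2 : F3) • (bd A 1 * bd P R)) :
    P * A = A * P := by
  rcases h with h | h
  · rw [bd_mul, bd_mul] at h
    exact (bd_inj h).1
  · rw [bd_mul, bd_mul, smul_bd] at h
    have := (bd_inj h).2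
    rw [mul_one, one_mul] at this
    exact absurd (eq_zero_of_two _ this) hR

theorem bd_comm_cases' {P R A : M2} (hP : P ≠ 0)
    (h : bd P R * bd 1 A = bd 1 A * bd P R ∨ bd P R * bd 1 A = (2 : F3) • (bd 1 A * bd P R)) :
    R * A = A * R := by
  rcases h with h | h
  · rw [bd_mul, bd_mul] at h
    exact (bd_inj h).2
  · rw [bd_mul, bd_mul, smul_bd] at h
    have := (bd_inj h).1
    rw [mul_one, one_mul] at this
    exact absurd (eq_zero_of_two _ this) hP

theorem ne_zero_of {M : SL2} (c : Bool) : M.1 * yc c ≠ 0 := by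
  intro h
  have h1 : M.1 = 0 := by
    calc M.1 = M.1 * yc c * yc c := by rw [mul_assoc, yc_mul, mul_one]
      _ = 0 := by rw [h, zero_mul]
  have h2 := M.2
  rw [h1] at h2
  revert h2
  decide +kernel

theorem self_aux {g : L} (hz : g * z = z * g) (hi : g * i = i * g) (hj : g * j = j * g)
    (hk : g * k = k * g) (hl : g * l = l * g) : g = 1 ∨ g = z := by
  obtain ⟨A, rfl⟩ := pr_surj g
  rw [comm_pr] at hz
  obtain ⟨⟨M, N, c, e⟩, rfl⟩ := exists_phi hz
  have h1 := comm_val hi
  have h2 := comm_val hj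
  have h3 := comm_val hk
  have h4 := comm_val hl
  rw [eI_val] at h1
  rw [eJ_val] at h2
  rw [eK_val] at h3
  rw [eL_val] at h4
  have hP : M.1 * yc c ≠ 0 := ne_zero_of c
  have hR : N.1 * yc c ≠ 0 := ne_zero_of c
  cases e
  · have hv : (phi (M, N, c, false)).1 = bd (M.1 * yc c) (N.1 * yc c) := by
      rw [← by_val]
      change ((b M N * (if c then eY else 1)).1 * 1) = _
      rw [mul_one]
    rw [hv] at h1 h2 h3 h4
    have a1 := bd_comm_cases hR h1
    have a2 := bd_comm_cases hR h2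
    have a3 := bd_comm_cases' hP h3
    have a4 := bd_comm_cases' hP h4
    have b1 := scal a1 a2 hP
    have b2 := scal a3 a4 hR
    rw [z, ← map_one pr, pr_eq_iff, pr_eq_iff]
    rcases b1 with b1 | b1 <;> rcases b2 with b2 | b2 <;> rw [b1, b2] at hv
    · left; left; apply Subtype.ext; rw [hv]; decide +kernel
    · right; right; apply Subtype.ext; rw [hv]; decide +kernel
    · right; left; apply Subtype.ext; rw [hv]; decide +kernel
    · left; right; apply Subtype.ext; rw [hv]; decide +kernel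
  · exfalso
    have hv : (phi (M, N, c, true)).1 = bd (M.1 * yc c) (N.1 * yc c) * eS.1 := by
      rw [← by_val]; rfl
    have hs : eS.1 * bd I2.1 1 = bd 1 I2.1 * eS.1 := by decide +kernel
    have hss : eS.1 * eS.1 = 1 := congrArg Subtype.val eS_sq
    have cancel : ∀ {A B : M4}, A * eS.1 = B * eS.1 → A = B := by
      intro A B h
      calc A = A * eS.1 * eS.1 := by rw [mul_assoc, hss, mul_one]
        _ = B := by rw [h, mul_assoc, hss, mul_one]
    rw [hv, mul_assoc, hs, ← mul_assoc, ← mul_assoc] at h1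
    apply hP
    apply fixI
    rcases h1 with h1 | h1
    · left
      have := cancel h1
      rw [bd_mul, bd_mul, mul_one] at this
      exact (bd_inj this).1
    · right
      rw [← Matrix.smul_mul] at h1
      have := cancel h1
      rw [bd_mul, bd_mul, mul_one, smul_bd] at this
      exact (bd_inj this).1

/-! ### `Large Q z` -/

theorem mem_Q {g : L} : g ∈ Q ↔ ∃ w, f w = g := by rw [← f_range]; rfl

theorem gen_mem {g : L} (h : g ∈ ({i, j, k, l} : Set L)) : g ∈ Q := Subgroup.subset_closure h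

theorem z_mem : z ∈ Q := mem_Q.2 ⟨_, f_zz⟩

theorem xg_comm : ∀ w v : XG rP4 4, w * v = v * w ∨ w * v = v * w * LargeExtra.Model.zz := by
  intro w v
  have h : (v * w)⁻¹ * (w * v) = 1 ∨ (v * w)⁻¹ * (w * v) = LargeExtra.Model.zz := by
    apply LargeExtra.Model.eq_one_or_zz
    simp only [LargeExtra.Model.mul_v, LargeExtra.Model.inv_v, Nat.xor_comm w.v.1 v.v.1, Nat.xor_self]
  rcases h with h | h
  · left; exact (inv_mul_eq_one.1 h).symm
  · right; rw [← h]; group

theorem xg_cent : ∀ x < 32, (∀ n : Fin 4, SmallExtra438.Model.toX x * q rP4 4 n = q rP4 4 n * SmallExtra438.Model.toX x) →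
    SmallExtra438.Model.toX x = 1 ∨ SmallExtra438.Model.toX x = LargeExtra.Model.zz := by decide +kernel

theorem norm_aux {g : L} (h : g ∈ ({i, j, k, l, x₁, x₂, y, s} : Set L)) {g' : L} (h' : g' ∈ ({i, j, k, l} : Set L)) :
    g * g' * g⁻¹ ∈ Q := by
  have hi : i ∈ Q := gen_mem (by simp)
  have hj : j ∈ Q := gen_mem (by simp)
  have hk : k ∈ Q := gen_mem (by simp)
  have hl : l ∈ Q := gen_mem (by simp)
  have hz := z_mem
  simp only [Set.mem_insert_iff, Set.mem_singleton_iff] at h
  rcases h with rfl | rfl | rfl | rfl | rfl | rfl | rfl | rfl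
  · exact mul_mem (mul_mem hi (gen_mem h')) (inv_mem hi)
  · exact mul_mem (mul_mem hj (gen_mem h')) (inv_mem hj)
  · exact mul_mem (mul_mem hk (gen_mem h')) (inv_mem hk)
  · exact mul_mem (mul_mem hl (gen_mem h')) (inv_mem hl)
  all_goals
    simp only [Set.mem_insert_iff, Set.mem_singleton_iff] at h'
    rcases h' with rfl | rfl | rfl | rfl
  · rw [x₁_act.i]; exact hj
  · rw [x₁_act.j]; exact mul_mem hi hj
  · rw [x₁_act.k]; exact hk
  · rw [x₁_act.l]; exact hl
  · rw [x₂_act.i]; exact hi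
  · rw [x₂_act.j]; exact hj
  · rw [x₂_act.k]; exact hl
  · rw [x₂_act.l]; exact mul_mem hk hl
  · rw [y_act.i]; exact mul_mem hj hz
  · rw [y_act.j]; exact mul_mem hi hz
  · rw [y_act.k]; exact mul_mem hl hz
  · rw [y_act.l]; exact mul_mem hk hz
  · rw [s_act.i]; exact hk
  · rw [s_act.j]; exact hl
  · rw [s_act.k]; exact hi
  · rw [s_act.l]; exact hj

theorem conj_mem_aux {G : Type*} [Group G] [Finite G] {S T : Set G} {K : Subgroup G} (hK : K = Subgroup.closure T)
    (h : ∀ g ∈ S, ∀ g' ∈ T, g * g' * g⁻¹ ∈ K) {g : G} (hg : g ∈ Subgroup.closure S) {x : G} (hx : x ∈ K) :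
    g * x * g⁻¹ ∈ K := by
  have h1 : ∀ g ∈ S, ∀ x ∈ K, g * x * g⁻¹ ∈ K := by
    intro g hg x hx
    have h2 : K ≤ K.comap (MulAut.conj g).toMonoidHom := by
      conv_lhs => rw [hK]
      rw [Subgroup.closure_le]
      intro t ht
      exact h g hg t ht
    exact h2 hx
  have h3 : ∀ g ∈ Submonoid.closure S, ∀ x ∈ K, g * x * g⁻¹ ∈ K := by
    intro g hg
    induction hg using Submonoid.closure_induction with
    | mem g hg => exact h1 g hg
    | one => intro x hx; simpa using hx
    | mul a b _ _ ha hb =>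
      intro x hx
      have := ha _ (hb x hx)
      have e : a * b * x * (a * b)⁻¹ = a * (b * x * b⁻¹) * a⁻¹ := by group
      rw [e]; exact this
  refine h3 g ?_ x hx
  have h4 : (Subgroup.closure S).toSubmonoid = Submonoid.closure S := by
    rw [Subgroup.closure_toSubmonoid_of_finite]
  rw [← h4]
  exact hg

theorem large : Large Q z where
  z_mem := z_mem
  z_ne := z_ne
  z_sq := zz
  comm_z := by
    intro x hx
    obtain ⟨w, rfl⟩ := mem_Q.1 hx
    rw [← f_zz, ← map_mul, ← map_mul, LargeExtra.Model.zz_comm]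
  conj_mem := by
    intro g hg x hx
    refine conj_mem_aux (S := {i, j, k, l, x₁, x₂, y, s}) (T := {i, j, k, l}) rfl (fun g hg g' hg' => norm_aux hg hg')
      ?_ hx
    rw [← cent_eq]; exact Subgroup.mem_centralizer_singleton_iff.2 hg
  sq := by
    intro x hx
    obtain ⟨w, rfl⟩ := mem_Q.1 hx
    rcases LargeExtra.Model.mul_self_mem w with h | h
    · left; rw [← map_mul, h, map_one]
    · right; rw [← map_mul, h, f_zz]
  comm := by
    intro x hx y hy
    obtain ⟨w, rfl⟩ := mem_Q.1 hx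
    obtain ⟨v, rfl⟩ := mem_Q.1 hy
    rcases xg_comm w v with h | h
    · left; rw [← map_mul, h, map_mul]
    · right; rw [← map_mul, h, map_mul, map_mul, f_zz]
  cent := by
    intro x hx hc
    obtain ⟨w, rfl⟩ := mem_Q.1 hx
    obtain ⟨n, hn, rfl⟩ := SmallExtra438.Model.toX_surj w
    rcases xg_cent n hn (fun m => f_inj (by
      rw [map_mul, map_mul]; exact hc _ (mem_Q.2 ⟨_, rfl⟩))) with h | h
    · left; rw [h, map_one]
    · right; rw [h, f_zz]
  self := by
    intro g hg hc
    rcases self_aux hg (hc i (gen_mem (by simp))) (hc j (gen_mem (by simp))) (hc k (gen_mem (by simp)))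
      (hc l (gen_mem (by simp))) with rfl | rfl
    · exact one_mem _
    · exact z_mem

theorem case9aa : Case9aa Q z i j k l x₁ x₂ y s where
  large := large
  card := card_Q
  gen := rfl
  ii := ii
  jj := jj
  kk := kk
  ll := ll
  ji := ji
  lk := lk
  ki := ki
  li := li
  kj := kj
  lj := lj
  x₁3 := x₁3
  x₂3 := x₂3
  x₁_act := x₁_act
  x₂_act := x₂_act
  y_act := y_act
  s_act := s_act
  xx := xx
  y1 := y1
  y2 := y2
  s1 := s1
  s2 := s2
  yy := Or.inl yy
  ss := Or.inl ss
  ys := Or.inl (conj_eq sy)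
  cent := cent_eq
  card_cent := card_cent

end Cfsg.Agent.KFacts.LFourThree
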