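import Cfsg.Agent.KFacts.LFourThree.Inst
import Cfsg.Agent.ClassicalGeometry.PSL2Basic

/-!
# `PSL(4, 3)`: the centraliser of `z` (helper948)

`C(z)` consists of the images of the `b M N * Y ^ c * S ^ e`, `M, N ∈ SL₂(3)`; order `1152`.
-/

set_option autoImplicit false

namespace Cfsg.Agent.KFacts.LFourThree

open Matrix

abbrev SL2 := SpecialLinearGroup (Fin 2) F3

/-- block diagonal matrices -/
def bd (M N : M2) : M4 := !![M 0 0, M 0 1, 0, 0; M 1 0, M 1 1, 0, 0; 0, 0, N 0 0, N 0 1; 0, 0, N 1 0, N 1 1]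

theorem bd_mul (M N M' N' : M2) : bd M N * bd M' N' = bd (M * M') (N * N') := by
  ext a b
  fin_cases a <;> fin_cases b <;> simp [bd, Matrix.mul_apply, Fin.sum_univ_succ]

theorem bd_one : bd 1 1 = 1 := by
  ext a b
  fin_cases a <;> fin_cases b <;> simp [bd]

theorem bd_det (M N : M2) : (bd M N).det = M.det * N.det := by
  rw [Matrix.det_fin_two, Matrix.det_fin_two, Matrix.det_succ_row_zero]
  simp [bd, Fin.sum_univ_succ, Matrix.det_fin_three, Matrix.submatrix_apply, Fin.succAbove]
  ring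

theorem bd_inj {M N M' N' : M2} (h : bd M N = bd M' N') : M = M' ∧ N = N' := by
  have e : ∀ a b, bd M N a b = bd M' N' a b := fun a b => by rw [h]
  constructor
  · ext a b
    fin_cases a <;> fin_cases b
    · exact e 0 0
    · exact e 0 1
    · exact e 1 0
    · exact e 1 1
  · ext a b
    fin_cases a <;> fin_cases b
    · exact e 2 2
    · exact e 2 3
    · exact e 3 2
    · exact e 3 3

/-- block diagonal elements -/
def b (M N : SL2) : SL4 := ⟨bd M.1 N.1, by rw [bd_det, M.2, N.2, mul_one]⟩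

theorem b_mul (M N M' N' : SL2) : b M N * b M' N' = b (M * M') (N * N') := by
  apply Subtype.ext
  change bd M.1 N.1 * bd M'.1 N'.1 = bd (M * M').1 (N * N').1
  rw [bd_mul]; rfl

/-- `M ↦ diag(M, 1)` -/
def b₁ : SL2 →* SL4 where
  toFun M := b M 1
  map_one' := Subtype.ext bd_one
  map_mul' M N := by rw [b_mul, mul_one]

/-- `N ↦ diag(1, N)` -/
def b₂ : SL2 →* SL4 where
  toFun N := b 1 N
  map_one' := Subtype.ext bd_one
  map_mul' M N := by rw [b_mul, mul_one]

theorem b_eq (M N : SL2) : b M N = b₁ M * b₂ N := by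
  change b M N = b M 1 * b 1 N
  rw [b_mul, mul_one, one_mul]

def Y2 : M2 := !![1, 0; 2, 2]

theorem Y2_sq : Y2 * Y2 = 1 := by decide +kernel
theorem Y2_det : Y2.det = 2 := by decide +kernel
theorem eY_val : eY.1 = bd Y2 Y2 := by decide +kernel
theorem eY_sq : eY * eY = 1 := by decide +kernel
theorem eS_sq : eS * eS = 1 := by decide +kernel

/-- the diagonal of `Z` -/
def dZ : Fin 4 → F3 := ![2, 2, 1, 1]

theorem eZ_val : eZ.1 = Matrix.diagonal dZ := by decide +kernel

theorem comm_entry {A : M4} (h : A * Matrix.diagonal dZ = Matrix.diagonal dZ * A) (a c : Fin 4) :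
    A a c * dZ c = dZ a * A a c := by
  have := congrFun (congrFun h a) c
  rwa [Matrix.mul_diagonal, Matrix.diagonal_mul] at this

theorem three_aux : ∀ x : F3, (x * 1 = 2 * x → x = 0) ∧ (x * 2 = 1 * x → x = 0) := by decide

theorem bd_of_comm {A : M4} (h : A * Matrix.diagonal dZ = Matrix.diagonal dZ * A) :
    A = bd !![A 0 0, A 0 1; A 1 0, A 1 1] !![A 2 2, A 2 3; A 3 2, A 3 3] := by
  have e := comm_entry h
  have e02 : A 0 2 = 0 := (three_aux _).1 (e 0 2)
  have e03 : A 0 3 = 0 := (three_aux _).1 (e 0 3)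
  have e12 : A 1 2 = 0 := (three_aux _).1 (e 1 2)
  have e13 : A 1 3 = 0 := (three_aux _).1 (e 1 3)
  have e20 : A 2 0 = 0 := (three_aux _).2 (e 2 0)
  have e21 : A 2 1 = 0 := (three_aux _).2 (e 2 1)
  have e30 : A 3 0 = 0 := (three_aux _).2 (e 3 0)
  have e31 : A 3 1 = 0 := (three_aux _).2 (e 3 1)
  ext a b
  fin_cases a <;> fin_cases b <;> simp [bd, e02, e03, e12, e13, e20, e21, e30, e31]

theorem bd_comm (M N : M2) : bd M N * Matrix.diagonal dZ = Matrix.diagonal dZ * bd M N := by
  have h : Matrix.diagonal dZ = bd ((2 : F3) • (1 : M2)) 1 := by decide +kernel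
  rw [h, bd_mul, bd_mul]
  congr 1 <;> simp

theorem det_cases : ∀ x w : F3, x * w = 1 → (x = 1 ∧ w = 1) ∨ (x = 2 ∧ w = 2) := by decide

theorem exists_b_of_comm {A : SL4} (h : A * eZ = eZ * A) :
    ∃ M N : SL2, A = b M N ∨ A = b M N * eY := by
  have h1 : A.1 * Matrix.diagonal dZ = Matrix.diagonal dZ * A.1 := by
    rw [← eZ_val]; exact congrArg Subtype.val h
  have h2 := bd_of_comm h1
  generalize !![A.1 0 0, A.1 0 1; A.1 1 0, A.1 1 1] = M at h2
  generalize !![A.1 2 2, A.1 2 3; A.1 3 2, A.1 3 3] = N at h2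
  have h3 : M.det * N.det = 1 := by rw [← bd_det, ← h2]; exact A.2
  rcases det_cases _ _ h3 with ⟨hM, hN⟩ | ⟨hM, hN⟩
  · exact ⟨⟨M, hM⟩, ⟨N, hN⟩, Or.inl (Subtype.ext h2)⟩
  · have e2 : (2 : F3) * 2 = 1 := by decide
    refine ⟨⟨M * Y2, by rw [Matrix.det_mul, hM, Y2_det, e2]⟩,
      ⟨N * Y2, by rw [Matrix.det_mul, hN, Y2_det, e2]⟩, Or.inr (Subtype.ext ?_)⟩
    change A.1 = bd (M * Y2) (N * Y2) * eY.1
    rw [eY_val, bd_mul, mul_assoc, mul_assoc, Y2_sq, mul_one, mul_one, h2]

/-- the elements of the preimage of `C(z)` -/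
def phi (x : SL2 × SL2 × Bool × Bool) : SL4 :=
  b x.1 x.2.1 * (if x.2.2.1 then eY else 1) * (if x.2.2.2 then eS else 1)

theorem b_comm (M N : SL2) : b M N * eZ = eZ * b M N := by
  apply Subtype.ext
  change bd M.1 N.1 * eZ.1 = eZ.1 * bd M.1 N.1
  rw [eZ_val, bd_comm]

theorem eY_comm : eY * eZ = eZ * eY := by decide +kernel
theorem eS_comm : eS * eZ = m1 * (eZ * eS) := by decide +kernel

theorem mul_comm_aux {G : Type*} [Group G] {a b z : G} (ha : a * z = z * a) (hb : b * z = z * b) :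
    a * b * z = z * (a * b) := by
  rw [mul_assoc, hb, ← mul_assoc, ha, mul_assoc]

theorem mul_comm_aux' {G : Type*} [Group G] {a b z m : G} (hm : ∀ g, m * g = g * m) (ha : a * z = z * a)
    (hb : b * z = m * (z * b)) : a * b * z = m * (z * (a * b)) := by
  rw [mul_assoc, hb, ← mul_assoc, ← hm a, mul_assoc, ← mul_assoc a, ha, mul_assoc]

theorem mul_comm_aux'' {G : Type*} [Group G] {a b z m : G} (hm : ∀ g, m * g = g * m) (hmm : m * m = 1)
    (ha : a * z = m * (z * a))
    (hb : b * z = m * (z * b)) : a * b * z = z * (a * b) := by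
  rw [mul_assoc, hb, ← mul_assoc, ← hm a, mul_assoc, ← mul_assoc a, ha, mul_assoc m, ← mul_assoc m, hmm, one_mul,
    mul_assoc]

theorem by_comm (M N : SL2) (c : Bool) : b M N * (if c then eY else 1) * eZ = eZ * (b M N * (if c then eY else 1)) := by
  apply mul_comm_aux (b_comm M N)
  cases c
  · exact (mul_one eZ).symm ▸ (one_mul eZ)
  · exact eY_comm

theorem phi_comm (x : SL2 × SL2 × Bool × Bool) :
    phi x * eZ = eZ * phi x ∨ phi x * eZ = m1 * (eZ * phi x) := by
  obtain ⟨M, N, c, e⟩ := x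
  cases e
  · left
    change b M N * (if c then eY else 1) * 1 * eZ = eZ * (b M N * (if c then eY else 1) * 1)
    exact mul_comm_aux (by_comm M N c) ((one_mul eZ).trans (mul_one eZ).symm)
  · right
    change b M N * (if c then eY else 1) * eS * eZ = m1 * (eZ * (b M N * (if c then eY else 1) * eS))
    exact mul_comm_aux' m1_comm (by_comm M N c) eS_comm

theorem exists_phi {A : SL4} (h : A * eZ = eZ * A ∨ A * eZ = m1 * (eZ * A)) : ∃ x, phi x = A := by
  rcases h with h | h
  · obtain ⟨M, N, h1 | h1⟩ := exists_b_of_comm h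
    · refine ⟨(M, N, false, false), ?_⟩
      change b M N * 1 * 1 = A
      rw [h1]; exact (mul_one _).trans (mul_one _)
    · refine ⟨(M, N, true, false), ?_⟩
      change b M N * eY * 1 = A
      rw [h1]; exact mul_one _
  · have h0 : A * eS * eZ = eZ * (A * eS) := mul_comm_aux'' m1_comm m1_sq h eS_comm
    have h2 : ∀ B : SL4, A * eS = B → B * eS = A := by
      intro B hB
      rw [← hB]
      exact (mul_assoc A eS eS).trans ((congrArg (A * ·) eS_sq).trans (mul_one A))
    obtain ⟨M, N, h1 | h1⟩ := exists_b_of_comm h0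
    · refine ⟨(M, N, false, true), ?_⟩
      change b M N * 1 * eS = A
      exact (congrArg (· * eS) (mul_one (b M N))).trans (h2 _ h1)
    · exact ⟨(M, N, true, true), h2 _ h1⟩

theorem not_both {A : SL4} (h1 : A * eZ = eZ * A) (h2 : A * eZ = m1 * (eZ * A)) : False := by
  have aux : ∀ {G : Type} [Group G] {g m : G}, g = m * g → m = 1 := by
    intro G _ g m h
    exact mul_right_cancel (b := g) (by rw [one_mul]; exact h.symm)
  exact m1_ne (aux (h1.symm.trans h2))

/-- `Y2 ^ c` -/
def yc (c : Bool) : M2 := if c then Y2 else 1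

theorem yc_det : ∀ c, (yc c).det = if c then 2 else 1 := by decide +kernel

theorem yc_mul : ∀ c, yc c * yc c = 1 := by decide +kernel

theorem by_val (M N : SL2) (c : Bool) : (b M N * (if c then eY else 1)).1 = bd (M.1 * yc c) (N.1 * yc c) := by
  cases c
  · change bd M.1 N.1 * 1 = bd (M.1 * 1) (N.1 * 1)
    rw [mul_one, mul_one, mul_one]
  · change bd M.1 N.1 * eY.1 = bd (M.1 * Y2) (N.1 * Y2)
    rw [eY_val, bd_mul]

theorem by_inj {M N M' N' : SL2} {c c' : Bool}
    (h : b M N * (if c then eY else 1) = b M' N' * (if c' then eY else 1)) : M = M' ∧ N = N' ∧ c = c' := by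
  have h1 := congrArg Subtype.val h
  have h2 := (by_val M N c).symm.trans (h1.trans (by_val M' N' c'))
  obtain ⟨h3, h4⟩ := bd_inj h2
  have h5 : c = c' := by
    have e := congrArg Matrix.det h3
    rw [Matrix.det_mul, Matrix.det_mul, M.2, M'.2, yc_det, yc_det, one_mul, one_mul] at e
    have hd : ∀ c c' : Bool, (if c then (2 : F3) else 1) = (if c' then 2 else 1) → c = c' := by decide
    exact hd _ _ e
  subst h5
  have cancel : ∀ {A B : M2}, A * yc c = B * yc c → A = B := by
    intro A B h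
    calc A = A * yc c * yc c := by rw [mul_assoc, yc_mul, mul_one]
      _ = B := by rw [h, mul_assoc, yc_mul, mul_one]
  exact ⟨Subtype.ext (cancel h3), Subtype.ext (cancel h4), rfl⟩

theorem phi_inj : Function.Injective phi := by
  rintro ⟨M, N, c, e⟩ ⟨M', N', c', e'⟩ h
  have c0 : ∀ (M N : SL2) (c : Bool), phi (M, N, c, false) * eZ = eZ * phi (M, N, c, false) := by
    intro M N c
    change b M N * (if c then eY else 1) * 1 * eZ = eZ * (b M N * (if c then eY else 1) * 1)
    exact mul_comm_aux (by_comm M N c) ((one_mul eZ).trans (mul_one eZ).symm)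
  have c1 : ∀ (M N : SL2) (c : Bool), phi (M, N, c, true) * eZ = m1 * (eZ * phi (M, N, c, true)) := by
    intro M N c
    change b M N * (if c then eY else 1) * eS * eZ = m1 * (eZ * (b M N * (if c then eY else 1) * eS))
    exact mul_comm_aux' m1_comm (by_comm M N c) eS_comm
  have key : e = e' ∧ b M N * (if c then eY else 1) = b M' N' * (if c' then eY else 1) := by
    cases e <;> cases e'
    · refine ⟨rfl, ?_⟩
      exact (mul_one _).symm.trans (h.trans (mul_one _))
    · exact (not_both (c0 M N c) (by rw [h]; exact c1 M' N' c')).elim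
    · exact (not_both (by rw [h]; exact c0 M' N' c') (c1 M N c)).elim
    · refine ⟨rfl, ?_⟩
      exact mul_right_cancel (b := eS) h
  obtain ⟨h1, h2⟩ := key
  obtain ⟨rfl, rfl, rfl⟩ := by_inj h2
  rw [h1]

/-! ### the order of `C(z)` -/

theorem comm_pr {A : SL4} : pr A * z = z * pr A ↔ (A * eZ = eZ * A ∨ A * eZ = m1 * (eZ * A)) := by
  rw [z, ← map_mul, ← map_mul, pr_eq_iff]

/-- the preimage of `C(z)` -/
def H : Subgroup SL4 := (Subgroup.centralizer {z}).comap pr

theorem mem_H {A : SL4} : A ∈ H ↔ (A * eZ = eZ * A ∨ A * eZ = m1 * (eZ * A)) :=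
  Subgroup.mem_centralizer_singleton_iff.trans comm_pr

theorem card_SL2F : Nat.card SL2 = 24 := by
  have h := Cfsg.Agent.ClassicalGeometry.PSL2Basic.card_SL2 (F := F3)
  rw [ZMod.card] at h
  exact h

theorem card_H : Nat.card H = 2304 := by
  let e : SL2 × SL2 × Bool × Bool ≃ H := Equiv.ofBijective (fun x => ⟨phi x, mem_H.2 (phi_comm x)⟩) (by
    constructor
    · intro x x' h
      exact phi_inj (congrArg Subtype.val h)
    · rintro ⟨A, hA⟩
      obtain ⟨x, hx⟩ := exists_phi (mem_H.1 hA)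
      exact ⟨x, Subtype.ext hx⟩)
  rw [← Nat.card_congr e, Nat.card_prod, Nat.card_prod, Nat.card_prod, card_SL2F, Nat.card_eq_fintype_card]
  rfl

theorem card_center : Nat.card (Subgroup.center SL4) = 2 := by
  have h : (Subgroup.center SL4 : Set SL4) = {1, m1} := by
    ext A
    simp only [SetLike.mem_coe, Set.mem_insert_iff, Set.mem_singleton_iff]
    exact mem_center
  have h2 : Nat.card (Subgroup.center SL4) = ({1, m1} : Set SL4).ncard := by
    rw [← h]; rfl
  rw [h2, Set.ncard_pair m1_ne.symm]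

theorem card_SL4 : Nat.card SL4 = 12130560 := by
  have h := (Subgroup.center SL4).card_eq_card_quotient_mul_card_subgroup
  rw [card_center] at h
  have h2 : Nat.card (SL4 ⧸ Subgroup.center SL4) = 6065280 := LargeExtra.W2.LFour.PslFacts.card_psl
  rw [h2] at h
  omega

theorem card_L : Nat.card L = 6065280 := LargeExtra.W2.LFour.PslFacts.card_psl

theorem card_cent : Nat.card (Subgroup.centralizer ({z} : Set L)) = 1152 := by
  have h1 : H.index = (Subgroup.centralizer ({z} : Set L)).index := Subgroup.index_comap_of_surjective _ pr_surj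
  have h2 := H.card_mul_index
  rw [card_H, card_SL4] at h2
  have h3 : H.index = 5265 := Nat.eq_of_mul_eq_mul_left (show 0 < 2304 by norm_num) h2
  have h4 := (Subgroup.centralizer ({z} : Set L)).card_mul_index
  rw [← h1, h3, card_L] at h4
  exact Nat.eq_of_mul_eq_mul_right (show 0 < 5265 by norm_num) h4

/-! ### generators of `C(z)` -/

def I2 : SL2 := ⟨!![0, 1; 2, 0], by decide +kernel⟩
def J2 : SL2 := ⟨!![1, 1; 1, 2], by decide +kernel⟩
def X2 : SL2 := ⟨!![0, 1; 2, 2], by decide +kernel⟩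

theorem word_aux : ∀ a b c d : F3, a * d - b * c = 1 → ∃ r < 4, ∃ t < 2, ∃ u < 3,
    (!![a, b; c, d] : M2) = I2.1 ^ r * J2.1 ^ t * X2.1 ^ u := by decide +kernel

theorem exists_word (M : SL2) : ∃ r t u : ℕ, M = I2 ^ r * J2 ^ t * X2 ^ u := by
  have h1 : M.1 = !![M.1 0 0, M.1 0 1; M.1 1 0, M.1 1 1] := Matrix.eta_fin_two _
  have h2 : M.1 0 0 * M.1 1 1 - M.1 0 1 * M.1 1 0 = 1 := by
    rw [← Matrix.det_fin_two]; exact M.2
  obtain ⟨r, -, t, -, u, -, h⟩ := word_aux _ _ _ _ h2
  exact ⟨r, t, u, Subtype.ext (h1.trans h)⟩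

theorem mem_of_word {K : Subgroup L} (f : SL2 →* SL4) (h1 : pr (f I2) ∈ K) (h2 : pr (f J2) ∈ K)
    (h3 : pr (f X2) ∈ K) (M : SL2) : pr (f M) ∈ K := by
  obtain ⟨r, t, u, rfl⟩ := exists_word M
  simp only [map_mul, map_pow]
  exact mul_mem (mul_mem (pow_mem h1 _) (pow_mem h2 _)) (pow_mem h3 _)

theorem b₁_I : b₁ I2 = eI := by decide +kernel
theorem b₁_J : b₁ J2 = eJ := by decide +kernel
theorem b₁_X : b₁ X2 = eX₁ := by decide +kernel
theorem b₂_I : b₂ I2 = eK := by decide +kernel
theorem b₂_J : b₂ J2 = eL := by decide +kernel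
theorem b₂_X : b₂ X2 = eX₂ := by decide +kernel

theorem cent_eq : Subgroup.centralizer ({z} : Set L) = Subgroup.closure {i, j, k, l, x₁, x₂, y, s} := by
  apply le_antisymm
  · intro g hg
    obtain ⟨A, rfl⟩ := pr_surj g
    rw [Subgroup.mem_centralizer_singleton_iff, comm_pr] at hg
    obtain ⟨⟨M, N, c, e⟩, rfl⟩ := exists_phi hg
    change pr (b M N * (if c then eY else 1) * (if e then eS else 1)) ∈ _
    rw [map_mul, map_mul, b_eq, map_mul]
    set K := Subgroup.closure ({i, j, k, l, x₁, x₂, y, s} : Set L) with hK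
    have hm : ∀ g ∈ ({i, j, k, l, x₁, x₂, y, s} : Set L), g ∈ K := fun g hg => Subgroup.subset_closure hg
    refine mul_mem (mul_mem (mul_mem ?_ ?_) ?_) ?_
    · apply mem_of_word b₁
      · rw [b₁_I]; exact hm i (by simp)
      · rw [b₁_J]; exact hm j (by simp)
      · rw [b₁_X]; exact hm x₁ (by simp)
    · apply mem_of_word b₂
      · rw [b₂_I]; exact hm k (by simp)
      · rw [b₂_J]; exact hm l (by simp)
      · rw [b₂_X]; exact hm x₂ (by simp)
    · cases c
      · exact (map_one pr).symm ▸ K.one_mem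
      · exact hm y (by simp)
    · cases e
      · exact (map_one pr).symm ▸ K.one_mem
      · exact hm s (by simp)
  · rw [Subgroup.closure_le]
    intro g hg
    exact Subgroup.mem_centralizer_singleton_iff.2 (z_comm hg)

end Cfsg.Agent.KFacts.LFourThree
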