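import Cfsg.Agent.KFacts.LFourThree.Case
import Cfsg.Agent.OddHalf.D6.QThree.Transport

/-!
# `PSL(4, 3)`: the facts `One` of the ODD half, D6, `q = 3` (helper948)

Generic part: every finite group with `Case9aa Q z …` and twist `0`, `|G : C(z)|` odd, `y ~ z` by an element `g` with
`g⁻¹ z g ∉ Q`. `exists_one`: `PSL(4, 3)`.
-/

set_option autoImplicit false

namespace Cfsg.Agent.KFacts.LFourThree.Facts

open Cfsg.Agent.LargeExtra.W2 Cfsg.Agent.SmallExtra438.ModelA Cfsg.Agent.SmallExtra438.FrameA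
open Cfsg.Agent.SmallExtra438.ClassA (cls0 cls0_ok cls0_all)
open Cfsg.Agent.SmallExtra438.Model (app T1 T2)
open Cfsg.Agent.OddHalf.D6.QThree.Facts
open Subgroup

/-- the square of the element with code `m` -/
def sq (m : ℕ) : ℕ := mm 0 m m

theorem chk_max : ∀ m < 1152, sq^[7] m = 0 → sq^[7] (mm 0 (mm 0 (mm 0 m 32) m) 64) = 0 →
    sq^[7] (mm 0 (mm 0 (mm 0 m 96) m) 192) = 0 → m < 32 := by decide +kernel

theorem chk_ab : ∀ m < 32, mm 0 m (app T1 m) = mm 0 (app T1 m) m → mm 0 m (app T2 m) = mm 0 (app T2 m) m →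
    m = 0 ∨ m = 16 := by decide +kernel

theorem chk_y : ∀ m < 1152, m ≠ 0 → mm 0 m (mm 0 m m) = 0 → mm 0 (mm 0 288 m) (mm 0 288 m) < 32 := by
  decide +kernel

theorem chk_ord : mm 0 32 (mm 0 32 32) = 0 ∧ mm 0 96 (mm 0 96 96) = 0 := by decide +kernel

/-- the codes of the conjugates of `y` -/
def invs : List ℕ := (cls0.filter (fun x => x.2.2 = 288)).map Prod.fst

/-- the involutions inverting `x₁`, `x₂` modulo `Q` are conjugate to `y` -/
theorem chk_inv : ∀ m < 1152, mm 0 m m = 0 ∧ mm 0 (mm 0 m 32) (mm 0 m 32) < 32 ∧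
    mm 0 (mm 0 m 96) (mm 0 m 96) < 32 → m ∈ invs := by decide +kernel

section

variable {G : Type*} [Group G] [Finite G] {Q : Subgroup G} {z i j k l x₁ x₂ y s : G}
variable (h : Case9aa Q z i j k l x₁ x₂ y s) (ht : Tw 0 z y s)
include h ht

omit [Finite G] in
theorem F_sq_iter (n : ℕ) : ∀ m < 1152, sq^[n] m < 1152 ∧
    F z i j k l x₁ x₂ y s (sq^[n] m) = (F z i j k l x₁ x₂ y s m) ^ (2 ^ n) := by
  induction n with
  | zero => intro m hm; exact ⟨hm, by simp⟩
  | succ n ih =>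
    intro m hm
    obtain ⟨h1, h2⟩ := ih m hm
    rw [Function.iterate_succ_apply']
    refine ⟨mm_lt h1 h1, ?_⟩
    rw [sq, F_mul h ht h1 h1, h2, ← pow_add, pow_succ, mul_two]

theorem F_sq_zero {m : ℕ} (hm : m < 1152) (hp : F z i j k l x₁ x₂ y s m ^ (2 ^ 7) = 1) : sq^[7] m = 0 := by
  obtain ⟨h1, h2⟩ := F_sq_iter h ht 7 m hm
  rw [hp, ← F_0 (z := z) (i := i) (j := j) (k := k) (l := l) (x₁ := x₁) (x₂ := x₂) (y := y) (s := s)] at h2
  exact F_inj h h1 (by norm_num) h2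

omit [Finite G] ht in
/-- 2-elements of `C(z)` -/
theorem pow_two_elt {N : Subgroup G} (h2 : IsPGroup 2 N) {n : G} (hn : n ∈ N) (hz : n * z = z * n) :
    n ^ (2 ^ 7) = 1 := by
  obtain ⟨a, ha⟩ := h2 ⟨n, hn⟩
  have h1 : n ^ (2 ^ a) = 1 := congrArg Subtype.val ha
  have h3 : orderOf n ∣ 2 ^ a := orderOf_dvd_of_pow_eq_one h1
  obtain ⟨b, hb, hb2⟩ := (Nat.dvd_prime_pow Nat.prime_two).1 h3
  have h4 : orderOf n ∣ 1152 := by
    rw [← h.card_cent]
    have h5 : orderOf (⟨n, mem_centralizer_singleton_iff.2 hz⟩ : centralizer ({z} : Set G)) ∣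
      Nat.card (centralizer ({z} : Set G)) := orderOf_dvd_natCard _
    rwa [orderOf_mk] at h5
  have h6 : b ≤ 7 := by
    rw [hb2] at h4
    by_contra hb7
    have h7 : 2 ^ 8 ∣ 2 ^ b := Nat.pow_dvd_pow 2 (by omega)
    have h8 := h7.trans h4
    revert h8; decide
  apply orderOf_dvd_iff_pow_eq_one.1
  rw [hb2]
  exact Nat.pow_dvd_pow 2 h6

theorem le_Q (N : Subgroup G) (h2 : IsPGroup 2 N) (hc : ∀ n ∈ N, n * z = z * n)
    (hn : ∀ g, g * z = z * g → ∀ n ∈ N, g * n * g⁻¹ ∈ N) : N ≤ Q := by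
  intro n hnN
  obtain ⟨m, hm, rfl⟩ := exists_code h (hc n hnN)
  rw [mem_Q_iff h hm]
  have key : ∀ c c' : ℕ, c < 1152 → c' < 1152 → mm 0 c c' = 0 →
      sq^[7] (mm 0 (mm 0 (mm 0 m c) m) c') = 0 := by
    intro c c' hc1 hc1' hcc
    apply F_sq_zero h ht (mm_lt (mm_lt (mm_lt hm hc1) hm) hc1')
    have e : F z i j k l x₁ x₂ y s (mm 0 (mm 0 (mm 0 m c) m) c') =
        F z i j k l x₁ x₂ y s m * (F z i j k l x₁ x₂ y s c * F z i j k l x₁ x₂ y s m *
          (F z i j k l x₁ x₂ y s c)⁻¹) := by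
      rw [F_mul h ht (mm_lt (mm_lt hm hc1) hm) hc1', F_mul h ht (mm_lt hm hc1) hm, F_mul h ht hm hc1,
        F_inv h ht hc1 hc1' hcc]
      simp only [mul_assoc]
    rw [e]
    have h3 := mul_mem hnN (hn _ (F_comm h c) _ hnN)
    exact pow_two_elt h h2 h3 (hc _ h3)
  exact chk_max m hm (F_sq_zero h ht hm (pow_two_elt h h2 hnN (hc _ hnN)))
    (key 32 64 (by norm_num) (by norm_num) (by decide +kernel))
    (key 96 192 (by norm_num) (by norm_num) (by decide +kernel))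

theorem ab (B : Subgroup G) (hB : B ≤ Q)
    (hab : ∀ a ∈ B, ∀ b ∈ B, a * b = b * a) (hn : ∀ g, g * z = z * g → ∀ b ∈ B, g * b * g⁻¹ ∈ B)
    (b : G) (hb : b ∈ B) : b = 1 ∨ b = z := by
  obtain ⟨m, hm, rfl⟩ := exists_code h (h.large.comm_z b (hB hb))
  have hm32 : m < 32 := (mem_Q_iff h hm).1 (hB hb)
  have hlt := SmallExtra438.ModelA.app_lt m hm32
  have e1 : x₁ * F z i j k l x₁ x₂ y s m * x₁⁻¹ = F z i j k l x₁ x₂ y s (app T1 m) := by
    rw [F_lt hm32, F_lt hlt.1, conj1 h hm32]; group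
  have e2 : x₂ * F z i j k l x₁ x₂ y s m * x₂⁻¹ = F z i j k l x₁ x₂ y s (app T2 m) := by
    rw [F_lt hm32, F_lt hlt.2.1, conj2 h hm32]; group
  have m1 := hn x₁ (z1 h).eq _ hb
  have m2 := hn x₂ (z2 h).eq _ hb
  rw [e1] at m1
  rw [e2] at m2
  have l1 : app T1 m < 1152 := by omega
  have l2 : app T2 m < 1152 := by omega
  rcases chk_ab m hm32 ((comm_iff h ht hm l1).1 (hab _ hb _ m1)) ((comm_iff h ht hm l2).1 (hab _ hb _ m2)) with
    rfl | rfl
  · left; exact F_0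
  · right; exact F_16

omit [Finite G] h ht in
theorem odd_of_cube {x : G} (h : x ^ 3 = 1) : Odd (orderOf x) := by
  have h1 : orderOf x ∣ 3 := orderOf_dvd_of_pow_eq_one h
  exact Odd.of_dvd_nat (by decide) h1

omit [Finite G] ht in
/-- `z ∈ O²(C(z))` -/
theorem oz : z ∈ closure {x : G | x * z = z * x ∧ Odd (orderOf x)} := by
  have m1 : x₁ ∈ closure {x : G | x * z = z * x ∧ Odd (orderOf x)} :=
    subset_closure ⟨(z1 h).eq, odd_of_cube h.x₁3⟩
  have ci : i * z = z * i := h.large.comm_z i (h.gen ▸ subset_closure (by simp))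
  have cj : j * z = z * j := h.large.comm_z j (h.gen ▸ subset_closure (by simp))
  have m2 : i * x₁ * i⁻¹ ∈ closure {x : G | x * z = z * x ∧ Odd (orderOf x)} := by
    refine subset_closure ⟨?_, odd_of_cube ?_⟩
    · have h1 : Commute z i := ci.symm
      have h2 : Commute z x₁ := (z1 h).symm
      exact ((h1.mul_right h2).mul_right h1.inv_right).eq.symm
    · rw [conj_pow, h.x₁3, mul_one, mul_inv_cancel]
  have e : x₁ * (i * x₁ * i⁻¹)⁻¹ = i * j := by
    have h1 : x₁ * i * x₁⁻¹ = j := h.x₁_act.i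
    have h2 : i⁻¹ = i * z := by
      rw [inv_eq_iff_mul_eq_one, ← mul_assoc, h.ii, h.large.z_sq]
    calc x₁ * (i * x₁ * i⁻¹)⁻¹ = (x₁ * i * x₁⁻¹) * i⁻¹ := by group
      _ = j * (i * z) := by rw [h1, h2]
      _ = (j * i) * z := by rw [mul_assoc]
      _ = i * j * (z * z) := by rw [h.ji]; simp only [mul_assoc]
      _ = i * j := by rw [h.large.z_sq, mul_one]
  have e2 : i * j * (i * j) = z := by
    calc i * j * (i * j) = i * (j * i) * j := by simp only [mul_assoc]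
      _ = i * i * (j * z) * j := by rw [h.ji]; simp only [mul_assoc]
      _ = z * (z * j) * j := by rw [h.ii, cj]
      _ = (z * z) * (j * j) := by simp only [mul_assoc]
      _ = z := by rw [h.large.z_sq, h.jj, one_mul]
  have m3 := mul_mem m1 (inv_mem m2)
  have m4 := mul_mem m3 m3
  rw [e, e2] at m4
  exact m4

/-- the involutions of `C(z)` inverting the elements of order three modulo `Q` are conjugate to `y` -/
theorem inv_conj {p : G} (hp : p * z = z * p) (hpp : p * p = 1)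
    (hd : ∀ d, d * z = z * d → orderOf d = 3 → p * d * p⁻¹ * d ∈ Q) : ∃ c, c * z = z * c ∧ c * p * c⁻¹ = y := by
  obtain ⟨m, hm, rfl⟩ := exists_code h hp
  have e1 : (F z i j k l x₁ x₂ y s m)⁻¹ = F z i j k l x₁ x₂ y s m := inv_eq_of_mul_eq_one_left hpp
  have key : ∀ c < 1152, c ≠ 0 → mm 0 c (mm 0 c c) = 0 → mm 0 (mm 0 m c) (mm 0 m c) < 32 := by
    intro c hc hc0 hcc
    have h1 : F z i j k l x₁ x₂ y s c ^ 3 = 1 := by
      rw [pow_succ', pow_two, ← F_mul h ht hc hc, ← F_mul h ht hc (mm_lt hc hc), hcc, F_0]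
    have h2 : F z i j k l x₁ x₂ y s c ≠ 1 := by
      intro h2
      rw [← F_0 (z := z) (i := i) (j := j) (k := k) (l := l) (x₁ := x₁) (x₂ := x₂) (y := y) (s := s)] at h2
      exact hc0 (F_inj h hc (by norm_num) h2)
    have h3 := hd _ (F_comm h c) (orderOf_eq_prime h1 h2)
    rw [e1, ← F_mul h ht hm hc, mul_assoc, ← F_mul h ht hm hc, ← F_mul h ht (mm_lt hm hc) (mm_lt hm hc)] at h3
    exact (mem_Q_iff h (mm_lt (mm_lt hm hc) (mm_lt hm hc))).1 h3
  have h1 := chk_inv m hm ⟨(sq_iff h ht hm).1 hpp, key 32 (by norm_num) (by norm_num) chk_ord.1,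
    key 96 (by norm_num) (by norm_num) chk_ord.2⟩
  obtain ⟨⟨m', c, r⟩, h4, h5⟩ := List.mem_map.1 h1
  change m' = m at h5
  subst h5
  obtain ⟨h6, h7⟩ := List.mem_filter.1 h4
  have h7' : r = 288 := by simpa using h7
  subst h7'
  obtain ⟨-, h8, -, h9⟩ := cls0_ok _ h6
  refine ⟨F z i j k l x₁ x₂ y s c, F_comm h c, ?_⟩
  rw [(conj_eq_iff h ht h8 hm (by norm_num)).2 h9, F_288]

theorem y_inv {d : G} (hd : d * z = z * d) (h3 : orderOf d = 3) : y * d * y⁻¹ * d ∈ Q := by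
  obtain ⟨m, hm, rfl⟩ := exists_code h hd
  have hyy : y * y = 1 := by
    have := ht.yy; simpa using this
  have e1 : y⁻¹ = y := inv_eq_of_mul_eq_one_left hyy
  have h1 : F z i j k l x₁ x₂ y s m ^ 3 = 1 := by rw [← h3, pow_orderOf_eq_one]
  have h2 : mm 0 m (mm 0 m m) = 0 := by
    have h4 : F z i j k l x₁ x₂ y s (mm 0 m (mm 0 m m)) = 1 := by
      rw [F_mul h ht hm (mm_lt hm hm), F_mul h ht hm hm, ← pow_two, ← pow_succ', h1]
    rw [← F_0 (z := z) (i := i) (j := j) (k := k) (l := l) (x₁ := x₁) (x₂ := x₂) (y := y) (s := s)] at h4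
    exact F_inj h (mm_lt hm (mm_lt hm hm)) (by norm_num) h4
  have h0 : m ≠ 0 := by
    rintro rfl
    rw [F_0, orderOf_one] at h3
    norm_num at h3
  have h5 := chk_y m hm h0 h2
  rw [e1]
  have e2 : y * F z i j k l x₁ x₂ y s m = F z i j k l x₁ x₂ y s (mm 0 288 m) := by
    rw [F_mul h ht (by norm_num) hm, F_288]
  rw [e2, mul_assoc, e2, ← F_mul h ht (mm_lt (by norm_num) hm) (mm_lt (by norm_num) hm)]
  exact (mem_Q_iff h (mm_lt (mm_lt (by norm_num) hm) (mm_lt (by norm_num) hm))).2 h5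

theorem base (odd : Odd (centralizer ({z} : Set G)).index) : Base z Q where
  zz := h.large.z_sq
  z1 := h.large.z_ne
  odd := odd
  zR := h.large.z_mem
  pR := LargeExtra.Base.isPGroup h.large
  RP := fun r hr => h.large.comm_z r hr
  nR := fun g hg r hr => h.large.conj_mem g hg r hr
  max := fun N h1 h2 h3 => le_Q h ht N h1 h2 h3
  cR := fun g hg hr => h.large.cent g (h.large.self g hg hr) hr
  ab := ab h ht
  oz := oz h

theorem one (odd : Odd (centralizer ({z} : Set G)).index) {g : G} (hg : g * z * g⁻¹ = y)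
    (hg2 : g⁻¹ * z * g ∉ Q) : One z Q where
  toBase := base h ht odd
  ex := ⟨y, g, by have := ht.yy; simpa using this, (zy h).eq, hg, hg2, fun _ hd h3 => y_inv h ht hd h3,
    fun _ h1 h2 h3 => inv_conj h ht h1 h2 h3⟩

end

/-! ### `PSL(4, 3)` -/

def eT : SL4 := ⟨!![1, 0, 0, 0; 1, 1, 0, 0; 0, 0, 1, 0; 0, 0, 1, 1], by decide +kernel⟩
def eP : SL4 := ⟨!![0, 0, 0, 1; 0, 1, 0, 0; 0, 0, 1, 0; 2, 0, 0, 0], by decide +kernel⟩
def eT' : SL4 := ⟨!![1, 0, 0, 0; 2, 1, 0, 0; 0, 0, 1, 0; 0, 0, 2, 1], by decide +kernel⟩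

/-- `z ↦ y ↦ z` -/
def g : L := pr (eT * eP * eT')

theorem gz : g * z = y * g := by
  simp only [g, z, y, ← map_mul]
  exact pm (by decide +kernel)

theorem gy : z * g = g * y := by
  simp only [g, z, y, ← map_mul]
  exact pm (by decide +kernel)

theorem y_not : y ∉ Q := by
  intro hy
  rw [← SmallExtra438.FrameA.F_288 (z := z) (i := i) (j := j) (k := k) (l := l) (x₁ := x₁) (x₂ := x₂) (y := y) (s := s),
    mem_Q_iff case9aa (by norm_num)] at hy
  norm_num at hy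

theorem one_L : One z Q := by
  refine one case9aa tw0 ?_ (g := g) (conj_eq gz) ?_
  · have h4 := (centralizer ({z} : Set L)).card_mul_index
    rw [card_cent, card_L] at h4
    have h5 : (centralizer ({z} : Set L)).index = 5265 := Nat.eq_of_mul_eq_mul_left (show 0 < 1152 by norm_num) h4
    rw [h5]; decide
  · have h1 : g⁻¹ * z * g = y := by rw [mul_assoc, gy]; exact inv_mul_cancel_left g y
    rw [h1]; exact y_not

/-- **`L₄(3)`.** -/
theorem exists_one {F : Type*} [Field F] [Fintype F] (hF : Fintype.card F = 3) :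
    ∃ (z : Matrix.ProjectiveSpecialLinearGroup (Fin 4) F) (R : Subgroup _), One z R := by
  obtain ⟨e⟩ := LargeExtra.W2.LFour.PslFacts.psl_congr F hF
  exact ⟨_, _, one_L.map e⟩

end Cfsg.Agent.KFacts.LFourThree.Facts
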