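import Cfsg.Agent.SmallExtra438.ClassA
import Cfsg.Agent.LargeExtra.W2.LFour.PslFacts

/-!
# `PSL(4, 3)`: the centraliser of a 2-central involution is the model of `SmallExtra438`, case `9aa`, twist `0`
(helper948)

`case9aa : Case9aa Q z i j k l x₁ x₂ y s` and `tw0 : Tw 0 z y s` in `PSL(4, 3)`; all questions on `C_K(z)` are then
questions on codes `< 1152` (`FrameA`).
-/

set_option autoImplicit false
set_option linter.unusedSimpArgs false

namespace Cfsg.Agent.KFacts.LFourThree

open Matrix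
open Cfsg.Agent.LargeExtra.Model Cfsg.Agent.LargeExtra.Pres Cfsg.Agent.LargeExtra.Models
open Cfsg.Agent.LargeExtra.W2 Cfsg.Agent.SmallExtra438.ModelA Cfsg.Agent.Co2Type.Quad
open Cfsg.Agent.SmallExtra438.Model (rP4 nd_P4 tri_P4)
open Cfsg.Agent.SmallExtra438.FrameA (Tw tw_zero)

instance : Fact (Nat.Prime 3) := ⟨Nat.prime_three⟩

abbrev F3 := ZMod 3
abbrev SL4 := SpecialLinearGroup (Fin 4) F3
abbrev L := ProjectiveSpecialLinearGroup (Fin 4) F3
abbrev M2 := Matrix (Fin 2) (Fin 2) F3
abbrev M4 := Matrix (Fin 4) (Fin 4) F3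

/-- the projection -/
def pr : SL4 →* L := QuotientGroup.mk' (Subgroup.center SL4)

theorem pr_surj : Function.Surjective pr := QuotientGroup.mk'_surjective (Subgroup.center SL4)

/-- `-1` -/
def m1 : SL4 := ⟨!![2, 0, 0, 0; 0, 2, 0, 0; 0, 0, 2, 0; 0, 0, 0, 2], by decide +kernel⟩

theorem m1_comm (A : SL4) : m1 * A = A * m1 := by
  apply Subtype.ext
  have h : (m1 : SL4).1 = (2 : F3) • (1 : M4) := by decide +kernel
  change m1.1 * A.1 = A.1 * m1.1
  rw [h]; simp

theorem m1_sq : m1 * m1 = 1 := by decide +kernel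

theorem m1_ne : m1 ≠ 1 := by decide +kernel

theorem mem_center {A : SL4} : A ∈ Subgroup.center SL4 ↔ A = 1 ∨ A = m1 := by
  constructor
  · intro h
    rw [Matrix.SpecialLinearGroup.mem_center_iff] at h
    obtain ⟨r, hr, h⟩ := h
    have h2 : ∀ r : F3, r ^ 4 = 1 → r = 1 ∨ r = 2 := by decide
    rcases h2 r (by simpa using hr) with rfl | rfl
    · left
      apply Subtype.ext
      rw [← h]; simp
    · right
      apply Subtype.ext
      rw [← h]; decide +kernel
  · rintro (rfl | rfl)
    · exact one_mem _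
    · rw [Subgroup.mem_center_iff]
      intro g
      exact (m1_comm g).symm

theorem pr_m1 : pr m1 = 1 := by
  have h : m1 ∈ Subgroup.center SL4 := mem_center.2 (Or.inr rfl)
  exact (QuotientGroup.eq_one_iff (N := Subgroup.center SL4) m1).2 h

theorem inv_aux {G : Type*} [Group G] {a b c : G} (h : a⁻¹ * b = c) : b = a * c := by rw [← h]; group

theorem pr_eq_aux {A B : SL4} (h : pr A = pr B) : A⁻¹ * B = 1 ∨ A⁻¹ * B = m1 := by
  have h1 : A⁻¹ * B ∈ Subgroup.center SL4 := QuotientGroup.eq.1 h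
  exact mem_center.1 h1

theorem aux1 {A B : SL4} (h2 : A⁻¹ * B = 1) : B = A := by
  have h3 := inv_aux (G := SL4) (a := A) (b := B) (c := 1) h2
  exact h3.trans (mul_one A)

theorem aux2 {A B : SL4} (h2 : A⁻¹ * B = m1) : A = m1 * B := by
  have h3 := inv_aux (G := SL4) (a := A) (b := B) (c := m1) h2
  have h4 : m1 * (A * m1) = A := by
    have := m1_comm A
    calc m1 * (A * m1) = m1 * (m1 * A) := by rw [this]
      _ = m1 * m1 * A := (mul_assoc m1 m1 A).symm
      _ = A := by rw [m1_sq]; exact one_mul A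
  rw [h3]; exact h4.symm

theorem aux3 {A B : SL4} (h : A = m1 * B) : pr A = pr B := by
  rw [h, map_mul, pr_m1, one_mul]

theorem pr_eq_iff {A B : SL4} : pr A = pr B ↔ A = B ∨ A = m1 * B := by
  constructor
  · intro h
    rcases pr_eq_aux h with h2 | h2
    · exact Or.inl (aux1 h2).symm
    · exact Or.inr (aux2 h2)
  · rintro (h | h)
    · rw [h]
    · exact aux3 h

theorem pr_eq_one_iff {A : SL4} : pr A = 1 ↔ A = 1 ∨ A = m1 := by
  have h1 : pr A = 1 ↔ A ∈ Subgroup.center SL4 := QuotientGroup.eq_one_iff (N := Subgroup.center SL4) A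
  exact h1.trans mem_center

/-! ### the elements -/

def eI : SL4 := ⟨!![0, 1, 0, 0; 2, 0, 0, 0; 0, 0, 1, 0; 0, 0, 0, 1], by decide +kernel⟩
def eJ : SL4 := ⟨!![1, 1, 0, 0; 1, 2, 0, 0; 0, 0, 1, 0; 0, 0, 0, 1], by decide +kernel⟩
def eK : SL4 := ⟨!![1, 0, 0, 0; 0, 1, 0, 0; 0, 0, 0, 1; 0, 0, 2, 0], by decide +kernel⟩
def eL : SL4 := ⟨!![1, 0, 0, 0; 0, 1, 0, 0; 0, 0, 1, 1; 0, 0, 1, 2], by decide +kernel⟩
def eZ : SL4 := ⟨!![2, 0, 0, 0; 0, 2, 0, 0; 0, 0, 1, 0; 0, 0, 0, 1], by decide +kernel⟩
def eX₁ : SL4 := ⟨!![0, 1, 0, 0; 2, 2, 0, 0; 0, 0, 1, 0; 0, 0, 0, 1], by decide +kernel⟩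
def eX₂ : SL4 := ⟨!![1, 0, 0, 0; 0, 1, 0, 0; 0, 0, 0, 1; 0, 0, 2, 2], by decide +kernel⟩
def eY : SL4 := ⟨!![1, 0, 0, 0; 2, 2, 0, 0; 0, 0, 1, 0; 0, 0, 2, 2], by decide +kernel⟩
def eS : SL4 := ⟨!![0, 0, 1, 0; 0, 0, 0, 1; 1, 0, 0, 0; 0, 1, 0, 0], by decide +kernel⟩

def i : L := pr eI
def j : L := pr eJ
def k : L := pr eK
def l : L := pr eL
def z : L := pr eZ
def x₁ : L := pr eX₁
def x₂ : L := pr eX₂
def y : L := pr eY
def s : L := pr eS

/-- `Q = Q₈ ∘ Q₈` -/
def Q : Subgroup L := Subgroup.closure {i, j, k, l}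

theorem pm {A B : SL4} (h : A = B ∨ A = m1 * B) : pr A = pr B := pr_eq_iff.2 h

theorem zz : z * z = 1 := by
  rw [z, ← map_mul, pr_eq_one_iff]
  decide +kernel

theorem z_ne : z ≠ 1 := by
  rw [z, Ne, pr_eq_one_iff]
  decide +kernel

theorem ii : i * i = z := by
  simp only [i, j, k, l, z, x₁, x₂, y, s, ← map_mul, ← map_pow]; exact pm (by decide +kernel)
theorem jj : j * j = z := by
  simp only [i, j, k, l, z, x₁, x₂, y, s, ← map_mul, ← map_pow]; exact pm (by decide +kernel)
theorem kk : k * k = z := by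
  simp only [i, j, k, l, z, x₁, x₂, y, s, ← map_mul, ← map_pow]; exact pm (by decide +kernel)
theorem ll : l * l = z := by
  simp only [i, j, k, l, z, x₁, x₂, y, s, ← map_mul, ← map_pow]; exact pm (by decide +kernel)
theorem ji : j * i = i * j * z := by
  simp only [i, j, k, l, z, x₁, x₂, y, s, ← map_mul, ← map_pow]; exact pm (by decide +kernel)
theorem lk : l * k = k * l * z := by
  simp only [i, j, k, l, z, x₁, x₂, y, s, ← map_mul, ← map_pow]; exact pm (by decide +kernel)
theorem ki : k * i = i * k := by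
  simp only [i, j, k, l, z, x₁, x₂, y, s, ← map_mul, ← map_pow]; exact pm (by decide +kernel)
theorem li : l * i = i * l := by
  simp only [i, j, k, l, z, x₁, x₂, y, s, ← map_mul, ← map_pow]; exact pm (by decide +kernel)
theorem kj : k * j = j * k := by
  simp only [i, j, k, l, z, x₁, x₂, y, s, ← map_mul, ← map_pow]; exact pm (by decide +kernel)
theorem lj : l * j = j * l := by
  simp only [i, j, k, l, z, x₁, x₂, y, s, ← map_mul, ← map_pow]; exact pm (by decide +kernel)

theorem conj_eq {G : Type*} [Group G] {c g g' : G} (h : c * g = g' * c) : c * g * c⁻¹ = g' := by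
  rw [h]; group

theorem x₁_act : Act z i j k l x₁ j (i * j) k l where
  z := conj_eq (by
    simp only [i, j, k, l, z, x₁, x₂, y, s, ← map_mul, ← map_pow]; exact pm (by decide +kernel))
  i := conj_eq (by
    simp only [i, j, k, l, z, x₁, x₂, y, s, ← map_mul, ← map_pow]; exact pm (by decide +kernel))
  j := conj_eq (by
    simp only [i, j, k, l, z, x₁, x₂, y, s, ← map_mul, ← map_pow]; exact pm (by decide +kernel))
  k := conj_eq (by
    simp only [i, j, k, l, z, x₁, x₂, y, s, ← map_mul, ← map_pow]; exact pm (by decide +kernel))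
  l := conj_eq (by
    simp only [i, j, k, l, z, x₁, x₂, y, s, ← map_mul, ← map_pow]; exact pm (by decide +kernel))

theorem x₂_act : Act z i j k l x₂ i j l (k * l) where
  z := conj_eq (by
    simp only [i, j, k, l, z, x₁, x₂, y, s, ← map_mul, ← map_pow]; exact pm (by decide +kernel))
  i := conj_eq (by
    simp only [i, j, k, l, z, x₁, x₂, y, s, ← map_mul, ← map_pow]; exact pm (by decide +kernel))
  j := conj_eq (by
    simp only [i, j, k, l, z, x₁, x₂, y, s, ← map_mul, ← map_pow]; exact pm (by decide +kernel))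
  k := conj_eq (by
    simp only [i, j, k, l, z, x₁, x₂, y, s, ← map_mul, ← map_pow]; exact pm (by decide +kernel))
  l := conj_eq (by
    simp only [i, j, k, l, z, x₁, x₂, y, s, ← map_mul, ← map_pow]; exact pm (by decide +kernel))

theorem y_act : Act z i j k l y (j * z) (i * z) (l * z) (k * z) where
  z := conj_eq (by
    simp only [i, j, k, l, z, x₁, x₂, y, s, ← map_mul, ← map_pow]; exact pm (by decide +kernel))
  i := conj_eq (by
    simp only [i, j, k, l, z, x₁, x₂, y, s, ← map_mul, ← map_pow]; exact pm (by decide +kernel))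
  j := conj_eq (by
    simp only [i, j, k, l, z, x₁, x₂, y, s, ← map_mul, ← map_pow]; exact pm (by decide +kernel))
  k := conj_eq (by
    simp only [i, j, k, l, z, x₁, x₂, y, s, ← map_mul, ← map_pow]; exact pm (by decide +kernel))
  l := conj_eq (by
    simp only [i, j, k, l, z, x₁, x₂, y, s, ← map_mul, ← map_pow]; exact pm (by decide +kernel))

theorem s_act : Act z i j k l s k l i j where
  z := conj_eq (by
    simp only [i, j, k, l, z, x₁, x₂, y, s, ← map_mul, ← map_pow]; exact pm (by decide +kernel))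
  i := conj_eq (by
    simp only [i, j, k, l, z, x₁, x₂, y, s, ← map_mul, ← map_pow]; exact pm (by decide +kernel))
  j := conj_eq (by
    simp only [i, j, k, l, z, x₁, x₂, y, s, ← map_mul, ← map_pow]; exact pm (by decide +kernel))
  k := conj_eq (by
    simp only [i, j, k, l, z, x₁, x₂, y, s, ← map_mul, ← map_pow]; exact pm (by decide +kernel))
  l := conj_eq (by
    simp only [i, j, k, l, z, x₁, x₂, y, s, ← map_mul, ← map_pow]; exact pm (by decide +kernel))

theorem x₁3 : x₁ ^ 3 = 1 := by
  simp only [i, j, k, l, z, x₁, x₂, y, s, ← map_mul, ← map_pow]; exact pr_eq_one_iff.2 (by decide +kernel)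
theorem x₂3 : x₂ ^ 3 = 1 := by
  simp only [i, j, k, l, z, x₁, x₂, y, s, ← map_mul, ← map_pow]; exact pr_eq_one_iff.2 (by decide +kernel)
theorem xx : x₁ * x₂ = x₂ * x₁ := by
  simp only [i, j, k, l, z, x₁, x₂, y, s, ← map_mul, ← map_pow]; exact pm (by decide +kernel)

theorem inv_of_sq {G : Type*} [Group G] {g : G} (h : g ^ 3 = 1) : g⁻¹ = g * g := by
  rw [inv_eq_iff_mul_eq_one, ← mul_assoc, ← pow_two, ← pow_succ, h]

theorem y1 : y * x₁ * y⁻¹ = x₁⁻¹ := by
  rw [inv_of_sq x₁3]
  exact conj_eq (by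
    simp only [i, j, k, l, z, x₁, x₂, y, s, ← map_mul, ← map_pow]; exact pm (by decide +kernel))

theorem y2 : y * x₂ * y⁻¹ = x₂⁻¹ := by
  rw [inv_of_sq x₂3]
  exact conj_eq (by
    simp only [i, j, k, l, z, x₁, x₂, y, s, ← map_mul, ← map_pow]; exact pm (by decide +kernel))

theorem s1 : s * x₁ * s⁻¹ = x₂ :=
  conj_eq (by
    simp only [i, j, k, l, z, x₁, x₂, y, s, ← map_mul, ← map_pow]; exact pm (by decide +kernel))

theorem s2 : s * x₂ * s⁻¹ = x₁ :=
  conj_eq (by
    simp only [i, j, k, l, z, x₁, x₂, y, s, ← map_mul, ← map_pow]; exact pm (by decide +kernel))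

theorem yy : y * y = 1 := by
  simp only [i, j, k, l, z, x₁, x₂, y, s, ← map_mul, ← map_pow]; exact pr_eq_one_iff.2 (by decide +kernel)
theorem ss : s * s = 1 := by
  simp only [i, j, k, l, z, x₁, x₂, y, s, ← map_mul, ← map_pow]; exact pr_eq_one_iff.2 (by decide +kernel)
theorem sy : s * y = y * s := by
  simp only [i, j, k, l, z, x₁, x₂, y, s, ← map_mul, ← map_pow]; exact pm (by decide +kernel)

theorem tw0 : Tw 0 z y s := tw_zero yy ss sy

/-! ### the hom from the model -/

theorem z_comm {g : L} (h : g ∈ ({i, j, k, l, x₁, x₂, y, s} : Set L)) : g * z = z * g := by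
  simp only [Set.mem_insert_iff, Set.mem_singleton_iff] at h
  rcases h with rfl | rfl | rfl | rfl | rfl | rfl | rfl | rfl
  · simp only [i, j, k, l, z, x₁, x₂, y, s, ← map_mul, ← map_pow]; exact pm (by decide +kernel)
  · simp only [i, j, k, l, z, x₁, x₂, y, s, ← map_mul, ← map_pow]; exact pm (by decide +kernel)
  · simp only [i, j, k, l, z, x₁, x₂, y, s, ← map_mul, ← map_pow]; exact pm (by decide +kernel)
  · simp only [i, j, k, l, z, x₁, x₂, y, s, ← map_mul, ← map_pow]; exact pm (by decide +kernel)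
  · simp only [i, j, k, l, z, x₁, x₂, y, s, ← map_mul, ← map_pow]; exact pm (by decide +kernel)
  · simp only [i, j, k, l, z, x₁, x₂, y, s, ← map_mul, ← map_pow]; exact pm (by decide +kernel)
  · simp only [i, j, k, l, z, x₁, x₂, y, s, ← map_mul, ← map_pow]; exact pm (by decide +kernel)
  · simp only [i, j, k, l, z, x₁, x₂, y, s, ← map_mul, ← map_pow]; exact pm (by decide +kernel)

theorem rels : Rels rP4 4 z (SmallExtra438.Frame.gn i j k l) where
  zz := zz
  comm := by
    intro n hn
    interval_cases n <;> exact z_comm (by simp [SmallExtra438.Frame.gn])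
  sq := by
    intro n hn
    interval_cases n
    · exact ii
    · exact jj
    · exact kk
    · exact ll
  cm := by
    have hi : i * z = z * i := z_comm (by simp)
    have hj : j * z = z * j := z_comm (by simp)
    have hk : k * z = z * k := z_comm (by simp)
    have hl : l * z = z * l := z_comm (by simp)
    intro n hn m hm
    interval_cases n
    · omega
    · interval_cases m
      change j * i = z * (i * j)
      rw [ji, mul_assoc, hj, ← mul_assoc, hi, mul_assoc]
    · interval_cases m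
      · change k * i = 1 * (i * k)
        rw [one_mul, ki]
      · change k * j = 1 * (j * k)
        rw [one_mul, kj]
    · interval_cases m
      · change l * i = 1 * (i * l)
        rw [one_mul, li]
      · change l * j = 1 * (j * l)
        rw [one_mul, lj]
      · change l * k = z * (k * l)
        rw [lk, mul_assoc, hl, ← mul_assoc, hk, mul_assoc]

/-- the hom `XG → L` with range `Q` -/
noncomputable def f : XG rP4 4 →* L := lift rels tri_P4

theorem f_inj : Function.Injective f := lift_injective rels tri_P4 nd_P4 z_ne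

theorem f_zz : f LargeExtra.Model.zz = z := lift_zz _ _

theorem f_range : f.range = Q := by
  apply le_antisymm
  · rintro _ ⟨w, rfl⟩
    have h1 : w ∈ (⊤ : Subgroup (XG rP4 4)) := Subgroup.mem_top _
    rw [← closure_q rP4 4] at h1
    have h2 : Subgroup.closure (insert (LargeExtra.Model.zz) (Set.range (q rP4 4))) ≤ Q.comap f := by
      rw [Subgroup.closure_le]
      rintro g (rfl | ⟨n, rfl⟩)
      · change f LargeExtra.Model.zz ∈ Q
        rw [f_zz, ← ii]
        exact mul_mem (Subgroup.subset_closure (by simp)) (Subgroup.subset_closure (by simp))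
      · change lift rels tri_P4 (q rP4 4 n) ∈ Q
        rw [lift_q]
        apply Subgroup.subset_closure
        fin_cases n <;> simp [SmallExtra438.Frame.gn]
    exact h2 h1
  · rw [Q, Subgroup.closure_le]
    intro g hg
    simp only [Set.mem_insert_iff, Set.mem_singleton_iff] at hg
    rcases hg with rfl | rfl | rfl | rfl
    · exact ⟨q rP4 4 0, lift_q rels tri_P4 0⟩
    · exact ⟨q rP4 4 1, lift_q rels tri_P4 1⟩
    · exact ⟨q rP4 4 2, lift_q rels tri_P4 2⟩
    · exact ⟨q rP4 4 3, lift_q rels tri_P4 3⟩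

theorem card_Q : Nat.card Q = 32 := by
  rw [← f_range, ← Nat.card_congr (MonoidHom.ofInjective f_inj).toEquiv, card_XG]
  norm_num

end Cfsg.Agent.KFacts.LFourThree
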